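import Groth.Agent.Lib.HilbStrat10.Uniform
import Groth.Agent.Lib.RankStratum9.Basic
import Groth.Agent.Lib.FormalExist7.PushTwist
import Groth.Agent.Lib.QCoh.SupportPullback
import Mathlib.LinearAlgebra.Lagrange

/-!
# Fitting ideals of the pushforwards of high twists
-/

set_option autoImplicit false
set_option linter.all false
set_option backward.isDefEq.respectTransparency false
set_option maxHeartbeats 1000000

universe u

open CategoryTheory Limits AlgebraicGeometry Opposite TopologicalSpace
open GrothLib.Ample (Cocycle)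
open GrothLib.EulerConst10 (fibEuler)
open scoped TensorProduct

noncomputable section

namespace GrothLib.HilbStrat10

/-- Every module over the spectrum of a field is flat over it. -/
theorem isFlatOver_field {K : Type u} [Field K] {X : Scheme.{u}} (f : X ⟶ Spec (CommRingCat.of K))
    (M : X.Modules) : FlatMod.IsFlatOver f M := by
  intro x
  let p := f.base x
  have hle : p.asIdeal.primeCompl ≤ IsUnit.submonoid K := fun a ha => by
    refine isUnit_iff_ne_zero.2 fun h0 => ha ?_
    rw [h0]
    exact Ideal.zero_mem _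
  have hK : IsField (Localization.AtPrime p.asIdeal) :=
    MulEquiv.isField (Field.toIsField K)
      (IsLocalization.atUnits K p.asIdeal.primeCompl hle).toRingEquiv.toMulEquiv.symm
  have hF : IsField ((Spec (CommRingCat.of K)).presheaf.stalk p) :=
    MulEquiv.isField hK (Spec.stalkIso (CommRingCat.of K) p).commRingCatIsoToRingEquiv.toMulEquiv
  letI := hF.toField
  letI := FlatMod.moduleStalkOver f M x
  show Module.Flat _ _
  infer_instance

variable {X : Scheme.{u}}

/-- A module of finite type mapped onto a bundle has vanishing small Fitting ideals. -/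
theorem sheafIdeal_eq_bot_of_epi {M P : X.Modules} [M.IsQuasicoherent] [P.IsQuasicoherent] (hM : CohB1.IsFT M)
    (hP : CohB1.IsFT P) (θ : M ⟶ P) [Epi θ] {r : ℕ} (hfree : FlatMod.IsFinLocFreeOfRank r P) {k : ℕ}
    (hk : k < r) : Fitt.sheafIdeal M k = ⊥ := by
  refine Scheme.IdealSheafData.ext (funext fun U => FittSheaf.ideal_eq_of_germ U.2 fun x hx => ?_)
  rw [FittSheaf.map_germ_sheafIdeal hM k U hx, Scheme.IdealSheafData.ideal_bot, Pi.bot_apply, Ideal.map_bot]
  obtain ⟨D, e, hxD, he⟩ := FinCov.exists_frame_nhd_of_rank hfree x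
  obtain ⟨b⟩ := Euler.stalk_basis_of_frame he hxD
  haveI := FittSheaf.finite_stalk hM x
  have hs : Function.Surjective ((OX.stalk x).map θ).hom :=
    (ModuleCat.epi_iff_surjective _).1 ((OX.epi_iff θ).1 inferInstance x)
  refine le_bot_iff.1 ((Fitting.ideal_le_of_surjective (M := M.presheaf.stalk x) (M' := P.presheaf.stalk x)
    ((OX.stalk x).map θ).hom hs k).trans ?_)
  rw [Fitting.ideal_of_basis b k, if_neg (by omega)]

/-- A map to a module of finite type is epi when it is so on the fibres. -/
theorem epi_of_isIso_fibres {M P : X.Modules} [P.IsQuasicoherent] (hP : CohB1.IsFT P) (θ : M ⟶ P)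
    (h : ∀ t : X, IsIso ((Scheme.Modules.pullback (X.fromSpecResidueField t)).map θ)) : Epi θ := by
  suffices hz : IsZero (cokernel θ) from Preadditive.epi_of_isZero_cokernel θ hz
  rw [OX.isZero_iff]
  intro t
  let q := X.fromSpecResidueField t
  haveI := (Scheme.Modules.pullbackPushforwardAdjunction q).leftAdjoint_preservesColimits
  haveI := h t
  have hz0 : (Scheme.Modules.pullback q).map (cokernel.π θ) = 0 := by
    rw [← cancel_epi ((Scheme.Modules.pullback q).map θ), ← Functor.map_comp, cokernel.condition, comp_zero]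
    exact Functor.map_zero _ _ _
  haveI : Epi ((Scheme.Modules.pullback q).map (cokernel.π θ)) := inferInstance
  have hzero : IsZero ((Scheme.Modules.pullback q).obj (cokernel θ)) := IsZero.of_epi_eq_zero _ hz0
  let w : Spec (X.residueField t) := IsLocalRing.closedPoint _
  have hw : q w = t := Scheme.fromSpecResidueField_apply t w
  rw [← hw]
  let φ := (q.stalkMap w).hom
  let _ := φ.toAlgebra
  haveI : IsLocalHom (algebraMap (X.presheaf.stalk (q w)) ((Spec (X.residueField t)).presheaf.stalk w)) :=
    inferInstanceAs (IsLocalHom (q.stalkMap w).hom)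
  haveI : Module.Finite (X.presheaf.stalk (q w)) ((OX.stalk (q w)).obj P) := FittSheaf.finite_stalk hP (q w)
  haveI : Module.Finite (X.presheaf.stalk (q w)) ((OX.stalk (q w)).obj (cokernel θ)) :=
    Module.Finite.of_surjective ((OX.stalk (q w)).map (cokernel.π θ)).hom
      ((ModuleCat.epi_iff_surjective _).1 ((OX.epi_iff (cokernel.π θ)).1 inferInstance (q w)))
  have e : ((OX.stalk w).obj ((Scheme.Modules.pullback q).obj (cokernel θ))) ≅
      (ModuleCat.extendScalars φ).obj ((OX.stalk (q w)).obj (cokernel θ)) :=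
    (QCoh.stalkPullbackIso q w).app (cokernel θ)
  haveI : Subsingleton ((Spec (X.residueField t)).presheaf.stalk w ⊗[X.presheaf.stalk (q w)]
      (OX.stalk (q w)).obj (cokernel θ)) :=
    ModuleCat.subsingleton_of_isZero (((OX.stalk w).map_isZero hzero).of_iso e.symm)
  haveI : Subsingleton ((OX.stalk (q w)).obj (cokernel θ)) :=
    (QCoh.subsingleton_tensor_iff (R := X.presheaf.stalk (q w)) (S := (Spec (X.residueField t)).presheaf.stalk w)).1
      inferInstance
  exact ModuleCat.isZero_of_subsingleton _

variable {R : Type u} [CommRing R] [IsNoetherianRing R] {X : Scheme.{u}}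
  (f : X ⟶ Spec (CommRingCat.of R)) [IsProper f] (c : Cocycle X) {G : X.Modules} (hG : Coh.IsCoh G)

/-- The pushforward of a twist. -/
def E (G : X.Modules) (n : ℕ) : (Spec (CommRingCat.of R)).Modules :=
  (Scheme.Modules.pushforward f).obj (c.modTwist G n)

include f hG in
theorem isCoh_twist (n : ℕ) : Coh.IsCoh (c.modTwist G n) :=
  haveI : IsLocallyNoetherian X := LocallyOfFiniteType.isLocallyNoetherian f
  Euler.isCoh_modTwist c hG n

include hG in
theorem isCoh_E (n : ℕ) : Coh.IsCoh (E f c G n) :=
  FormalExist7.isCoh_pushforward f (isCoh_twist f c hG n)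

include f hG in
theorem isFP_twist (n : ℕ) : CohB1.IsFP (c.modTwist G n) :=
  haveI : IsLocallyNoetherian X := LocallyOfFiniteType.isLocallyNoetherian f
  haveI := (isCoh_twist f c hG n).1
  QCoh.isFinitePresentation_of_isFiniteType _ (isCoh_twist f c hG n).2

include hG in
/-- At a field valued point the pushforward is free of rank the Euler characteristic. -/
theorem exists_rank_point {n : ℕ} {s : Spec (CommRingCat.of R)} (hok : PtOK f (c.modTwist G n) s) :
    ∃ r : ℕ, fibEuler f (c.modTwist G n) s = (r : ℤ) ∧ FlatMod.IsFinLocFreeOfRank r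
      ((Scheme.Modules.pullback ((Spec (CommRingCat.of R)).fromSpecResidueField s)).obj (E f c G n)) := by
  obtain ⟨hrank, hiso⟩ := hok
  haveI := (isCoh_twist f c hG n).1
  let M := c.modTwist G n
  let S := Spec (CommRingCat.of R)
  let q := S.fromSpecResidueField s
  let f' := f.fiberToSpecResidueField s
  let g' := f.fiberι s
  have hsq : IsPullback g' f' f q := IsPullback.of_hasPullback f q
  haveI : LocallyOfFinitePresentation f := inferInstance
  haveI : IsProper f' := MorphismProperty.pullback_snd (P := @IsProper) f q ‹_›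
  haveI : LocallyOfFinitePresentation f' :=
    MorphismProperty.pullback_snd (P := @LocallyOfFinitePresentation) f q inferInstance
  let M' := (Scheme.Modules.pullback g').obj M
  have hM' : CohB1.IsFP M' := FittSheaf.isFP_pullback g' M (isFP_twist f c hG n)
  have hq : ∀ w, q w = s := Scheme.fromSpecResidueField_apply s
  have hr : ∀ (y : Spec (S.residueField s)) (p : ℕ), 1 ≤ p → CohIII.fiberRank f' M' p y = 0 := fun y p hp => by
    rw [fiberRank_baseChange hsq M p y, hq y]
    exact hrank p hp
  let z : Spec (S.residueField s) := IsLocalRing.closedPoint _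
  obtain ⟨U, r, hzU, hφ, hn⟩ := exists_free_near_euler f' hM' (isFlatOver_field (K := S.residueField s) f' M') hr z
  have hχ : fibEuler f M s = (r : ℤ) := by
    have h := hn z hzU
    rwa [EulerConst10.fibEuler_baseChange hsq M z, hq z] at h
  refine ⟨r, hχ, fun y => ?_⟩
  haveI : Subsingleton (Spec (S.residueField s)) := inferInstanceAs (Subsingleton (PrimeSpectrum _))
  obtain rfl : z = y := Subsingleton.elim _ _
  haveI := hiso (S.residueField s) q (hq _) f' g' hsq
  exact ⟨U, hzU, ⟨(Scheme.Modules.restrictFunctor U.ι).mapIso (asIso (CohBC.bc0 f q f' g' hsq.w M)) ≪≫ hφ.some⟩⟩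

include hG in
/-- The support of the Fitting ideals is given by the Euler characteristics. -/
theorem mem_support_iff {n : ℕ} {s : Spec (CommRingCat.of R)} (hok : PtOK f (c.modTwist G n) s) (k : ℕ) :
    s ∈ (Fitt.sheafIdeal (E f c G n) k).support ↔ (k : ℤ) < fibEuler f (c.modTwist G n) s := by
  obtain ⟨r, hr, hfree⟩ := exists_rank_point f c hG hok
  haveI := (isCoh_E f c hG n).1
  let S := Spec (CommRingCat.of R)
  let q := S.fromSpecResidueField s
  haveI := FittSheaf.isQuasicoherent_pullback q (E f c G n)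
  have h : (Fitt.sheafIdeal (E f c G n) k).comap q = if r ≤ k then ⊤ else ⊥ := by
    rw [Groth.Agent.S8872.result q (E f c G n) (isCoh_E f c hG n).1 (isCoh_E f c hG n).2 k]
    exact RankStratum9.sheafIdeal_eq_of_rank (RankStratum9.isFT_pullback q _ (isCoh_E f c hG n).2) hfree k
  let z : Spec (S.residueField s) := IsLocalRing.closedPoint _
  have hq : q z = s := Scheme.fromSpecResidueField_apply s z
  have h2 : z ∈ ((Fitt.sheafIdeal (E f c G n) k).comap q).support ↔ s ∈ (Fitt.sheafIdeal (E f c G n) k).support := by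
    rw [Scheme.IdealSheafData.support_comap]
    show q z ∈ (Fitt.sheafIdeal (E f c G n) k).support ↔ _
    rw [hq]
  rw [← h2, h, hr]
  split_ifs with hk
  · rw [Scheme.IdealSheafData.support_top]
    exact ⟨fun h => absurd h (by rw [← SetLike.mem_coe, Closeds.coe_bot]; exact id), fun h => by omega⟩
  · rw [Scheme.IdealSheafData.support_bot]
    exact ⟨fun _ => by omega, fun _ => trivial⟩

variable {T : Scheme.{u}} (g : T ⟶ Spec (CommRingCat.of R))

include hG in
/-- Prescribed rank of the pulled back pushforward gives the Euler characteristics. -/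
theorem euler_eq_of_rank {n r : ℕ} (hok : ∀ s, PtOK f (c.modTwist G n) s)
    (h : FlatMod.IsFinLocFreeOfRank r ((Scheme.Modules.pullback g).obj (E f c G n))) (t : T) :
    fibEuler f (c.modTwist G n) (g t) = (r : ℤ) := by
  haveI := (isCoh_E f c hG n).1
  haveI := FittSheaf.isQuasicoherent_pullback g (E f c G n)
  have hI : ∀ k, (Fitt.sheafIdeal (E f c G n) k).comap g = if r ≤ k then ⊤ else ⊥ := fun k => by
    rw [Groth.Agent.S8872.result g (E f c G n) (isCoh_E f c hG n).1 (isCoh_E f c hG n).2 k]
    exact RankStratum9.sheafIdeal_eq_of_rank (RankStratum9.isFT_pullback g _ (isCoh_E f c hG n).2) h k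
  have hs : ∀ k, g t ∈ (Fitt.sheafIdeal (E f c G n) k).support ↔
      t ∈ ((Fitt.sheafIdeal (E f c G n) k).comap g).support := fun k => by
    rw [Scheme.IdealSheafData.support_comap]; rfl
  have h0 : 0 ≤ fibEuler f (c.modTwist G n) (g t) := by
    obtain ⟨r', hr', -⟩ := exists_rank_point f c hG (hok (g t))
    omega
  have h1 : ¬ ((r : ℤ) < fibEuler f (c.modTwist G n) (g t)) := by
    rw [← mem_support_iff f c hG (hok (g t)) r, hs, hI, if_pos le_rfl, Scheme.IdealSheafData.support_top,
      ← SetLike.mem_coe, Closeds.coe_bot]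
    exact id
  by_contra hne
  have hlt : fibEuler f (c.modTwist G n) (g t) < (r : ℤ) := by omega
  obtain ⟨k, hk⟩ : ∃ k : ℕ, fibEuler f (c.modTwist G n) (g t) = (k : ℤ) := ⟨_, (Int.toNat_of_nonneg h0).symm⟩
  have h2 : g t ∈ (Fitt.sheafIdeal (E f c G n) k).support := by
    rw [hs, hI, if_neg (by omega), Scheme.IdealSheafData.support_bot]
    trivial
  rw [mem_support_iff f c hG (hok (g t)) k, hk] at h2
  exact lt_irrefl _ h2

include hG in
/-- **Flat families with the given Hilbert function have bundles of that rank.** -/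
theorem isFinLocFreeOfRank_of_flat {n r : ℕ} (hok : ∀ s, PtOK f (c.modTwist G n) s) {X' : Scheme.{u}}
    {f' : X' ⟶ T} {g' : X' ⟶ X} (hsq : IsPullback g' f' f g)
    (hfl : FlatMod.IsFlatOver f' ((Scheme.Modules.pullback g').obj (c.modTwist G n)))
    (hr : ∀ t : T, fibEuler f (c.modTwist G n) (g t) = (r : ℤ)) :
    FlatMod.IsFinLocFreeOfRank r ((Scheme.Modules.pullback g).obj (E f c G n)) := by
  haveI := (isCoh_twist f c hG n).1
  haveI := (isCoh_E f c hG n).1
  let M := c.modTwist G n
  let M' := (Scheme.Modules.pullback g').obj M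
  haveI : LocallyOfFinitePresentation f := inferInstance
  haveI : IsProper f' := MorphismProperty.of_isPullback (P := @IsProper) hsq ‹_›
  haveI : LocallyOfFinitePresentation f' := MorphismProperty.of_isPullback (P := @LocallyOfFinitePresentation) hsq inferInstance
  have hM' : CohB1.IsFP M' := FittSheaf.isFP_pullback g' M (isFP_twist f c hG n)
  haveI : Coh.IsQCoh M' := SemiPrufer.qcoh_of_isFP hM'
  have hr' : ∀ (y : T) (p : ℕ), 1 ≤ p → CohIII.fiberRank f' M' p y = 0 := fun y p hp => by
    rw [fiberRank_baseChange hsq M p y]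
    exact (hok (g y)).1 p hp
  let P := (Scheme.Modules.pushforward f').obj M'
  have hP : FlatMod.IsFinLocFreeOfRank r P := fun y => by
    obtain ⟨U, m, hyU, hφ, hm⟩ := exists_free_near_euler f' hM' hfl hr' y
    have h := hm y hyU
    rw [EulerConst10.fibEuler_baseChange hsq M y, hr y] at h
    obtain rfl : r = m := by omega
    exact ⟨U, hyU, hφ⟩
  have hPF : FlatMod.IsFinLocFree P := fun y => have ⟨U, h1, h2⟩ := hP y; ⟨U, r, h1, h2⟩
  haveI : P.IsQuasicoherent := (Euler.isCoh_of_isFinLocFree hPF).1
  let θ := CohBC.bc0 f g f' g' hsq.w M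
  haveI : Epi θ := by
    refine epi_of_isIso_fibres (Euler.isCoh_of_isFinLocFree hPF).2 θ fun t => ?_
    let v := T.fromSpecResidueField t
    have hsq₂ : IsPullback (f'.fiberι t) (f'.fiberToSpecResidueField t) f' v := IsPullback.of_hasPullback f' v
    have hbig : IsPullback (f'.fiberι t ≫ g') (f'.fiberToSpecResidueField t) f (v ≫ g) := hsq₂.paste_horiz hsq
    haveI := BCCrit.isIso_bc0_of_goodAll hM' hfl ⊤ (fun y _ => goodAll_zero f' y (hr' y 1 le_rfl)) hsq₂
      fun _ => trivial
    have hpt : (v ≫ g) (IsLocalRing.closedPoint (T.residueField t)) = g t := by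
      show g (v _) = g t
      rw [Scheme.fromSpecResidueField_apply]
    haveI := (hok (g t)).2 (T.residueField t) (v ≫ g) hpt _ _ hbig
    exact isIso_pullback_map_bc0 hsq.w hsq₂.w hbig.w rfl rfl M
  haveI := FittSheaf.isQuasicoherent_pullback g (E f c G n)
  have hFT := RankStratum9.isFT_pullback g _ (isCoh_E f c hG n).2
  rw [RankStratum9.isFinLocFreeOfRank_iff hFT]
  refine ⟨fun k hk => sheafIdeal_eq_bot_of_epi hFT (Euler.isCoh_of_isFinLocFree hPF).2 θ hP hk, ?_⟩
  rw [← Groth.Agent.S8872.result g (E f c G n) (isCoh_E f c hG n).1 (isCoh_E f c hG n).2 r,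
    ← Scheme.IdealSheafData.support_eq_bot_iff, Scheme.IdealSheafData.support_comap, ← SetLike.coe_set_eq]
  show g ⁻¹' ((Fitt.sheafIdeal (E f c G n) r).support : Set _) = ∅
  refine Set.eq_empty_iff_forall_notMem.2 fun t ht => ?_
  have := (mem_support_iff f c hG (hok (g t)) r).1 ht
  rw [hr t] at this
  exact lt_irrefl _ this

/-- A function of degree `< δ` is a polynomial. -/
theorem exists_polynomial {δ : ℕ} {F : (Fin 1 → ℕ) → ℚ} (hF : F ∈ Snapper.polyLT 1 δ) :
    ∃ P : Polynomial ℚ, P.degree < δ ∧ ∀ n : ℕ, F (fun _ => n) = P.eval (n : ℚ) := by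
  induction hF using Submodule.span_induction with
  | mem g hg =>
    obtain ⟨m, hm, rfl⟩ := hg
    refine ⟨Polynomial.X ^ (m 0), ?_, fun n => by simp [Snapper.mono]⟩
    rw [Polynomial.degree_X_pow]
    have : m 0 < δ := by simpa using hm
    exact_mod_cast this
  | zero => exact ⟨0, by rw [Polynomial.degree_zero]; exact WithBot.bot_lt_coe _, fun n => by simp⟩
  | add a b _ _ ha hb =>
    obtain ⟨P, hP, hP'⟩ := ha
    obtain ⟨Q, hQ, hQ'⟩ := hb
    exact ⟨P + Q, lt_of_le_of_lt (Polynomial.degree_add_le P Q) (max_lt hP hQ), fun n => by simp [hP', hQ']⟩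
  | smul r a _ ha =>
    obtain ⟨P, hP, hP'⟩ := ha
    exact ⟨r • P, lt_of_le_of_lt (Polynomial.degree_smul_le r P) hP, fun n => by simp [hP']⟩

/-- Agreement on a window gives agreement everywhere. -/
theorem eq_of_window {δ N : ℕ} {F : (Fin 1 → ℕ) → ℚ} (hF : F ∈ Snapper.polyLT 1 δ) {Φ : Polynomial ℚ}
    (hΦ : Φ.degree < δ) (h : ∀ n, N ≤ n → n < N + δ → F (fun _ => n) = Φ.eval (n : ℚ)) (n : ℕ) :
    F (fun _ => n) = Φ.eval (n : ℚ) := by
  classical
  obtain ⟨P, hP, hP'⟩ := exists_polynomial hF
  let s : Finset ℚ := (Finset.Ico N (N + δ)).image (fun m : ℕ => (m : ℚ))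
  have hs : s.card = δ := by
    rw [Finset.card_image_of_injective _ Nat.cast_injective, Nat.card_Ico]
    omega
  have : P = Φ := by
    refine Polynomial.eq_of_degrees_lt_of_eval_finset_eq s (by rw [hs]; exact hP) (by rw [hs]; exact hΦ) fun x hx => ?_
    obtain ⟨m, hm, rfl⟩ := Finset.mem_image.1 hx
    rw [Finset.mem_Ico] at hm
    rw [← hP', h m hm.1 hm.2]
  rw [hP', this]

end GrothLib.HilbStrat10
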