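import Groth.Agent.Lib.BCCrit.Bc0
import Groth.Agent.Lib.BCComp.PullOn
import Groth.Agent.Lib.CohPullLib.SecPull
import Groth.Agent.Lib.QCoh.Filtration
import Groth.Agent.Lib.FittSheaf.PullbackFP
import Groth.Agent.Lib.QCoh.Qcqs

/-!
# Base change in degree zero: composites, open immersions, affine bases
-/

set_option autoImplicit false
set_option linter.all false
set_option backward.isDefEq.respectTransparency false
set_option maxHeartbeats 1000000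

universe u

open CategoryTheory CategoryTheory.Limits AlgebraicGeometry Opposite TopologicalSpace TensorProduct
open GrothLib.BCCoh (pullRes)

noncomputable section

namespace GrothLib.HilbStrat10

variable {X S : Scheme.{u}}

/-- Pulling back sections along an open immersion is bijective onto opens below it. -/
theorem bijective_pullRes {S' : Scheme.{u}} (j : S' ⟶ S) [IsOpenImmersion j] (N : S.Modules) {V : S.Opens}
    {V' : S'.Opens} (h : j ''ᵁ V' = V) (e : V' ≤ j ⁻¹ᵁ V) :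
    Function.Bijective (pullRes j N V V' e) := by
  subst h
  have key : ∀ s : Γ(N, j ''ᵁ V'), pullRes j N (j ''ᵁ V') V' e s =
      ((Scheme.Modules.restrictFunctorIsoPullback j).hom.app N).app V' s := fun s => by
    rw [← CohPullLib.restrictIso_pullRes j N (j ''ᵁ V') V' e le_rfl s, CohPullLib.map_sec_self]
  rw [show pullRes j N (j ''ᵁ V') V' e = _ from funext key]
  exact ConcreteCategory.bijective_of_isIso
    (((Scheme.Modules.restrictFunctorIsoPullback j).hom.app N).app V')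

variable {f : X ⟶ S}

/-- Base change along an open immersion is an isomorphism. -/
theorem isIso_bc0_of_isOpenImmersion {S' X' : Scheme.{u}} {g : S' ⟶ S} {f' : X' ⟶ S'} {g' : X' ⟶ X}
    (hsq : IsPullback g' f' f g) [IsOpenImmersion g] (F : X.Modules) :
    IsIso (CohBC.bc0 f g f' g' hsq.w F) := by
  haveI : IsOpenImmersion g' := MorphismProperty.of_isPullback (P := @IsOpenImmersion) hsq.flip ‹_›
  refine Scheme.Modules.Hom.isIso_iff_isIso_app.mpr fun V' => (ConcreteCategory.isIso_iff_bijective _).mpr ?_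
  let V : S.Opens := g ''ᵁ V'
  have e : V' ≤ g ⁻¹ᵁ V := (g.preimage_image_eq V').ge
  have hV : g' ''ᵁ (f' ⁻¹ᵁ V') = f ⁻¹ᵁ V :=
    IsOpenImmersion.image_preimage_eq_preimage_image_of_isPullback hsq.flip V'
  have e' : f' ⁻¹ᵁ V' ≤ g' ⁻¹ᵁ (f ⁻¹ᵁ V) := by
    rw [← hV, g'.preimage_image_eq]
  have h1 : Function.Bijective (pullRes g ((Scheme.Modules.pushforward f).obj F) V V' e) :=
    bijective_pullRes g _ rfl e
  have h2 : Function.Bijective (pullRes g' F (f ⁻¹ᵁ V) (f' ⁻¹ᵁ V') e') := bijective_pullRes g' F hV e'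
  refine (Function.Bijective.of_comp_iff _ h1).1 ?_
  rw [show ((CohBC.bc0 f g f' g' hsq.w F).app V') ∘ pullRes g ((Scheme.Modules.pushforward f).obj F) V V' e =
    pullRes g' F (f ⁻¹ᵁ V) (f' ⁻¹ᵁ V') e' from funext fun s => BCCrit.bc0_pullRes hsq.w F V V' e e' s]
  exact h2

variable {S₁ X₁ S₂ X₂ : Scheme.{u}} {g₁ : S₁ ⟶ S} {f₁ : X₁ ⟶ S₁} {g₁' : X₁ ⟶ X} {g₂ : S₂ ⟶ S₁}
  {f₂ : X₂ ⟶ S₂} {g₂' : X₂ ⟶ X₁}

/-- **The base change map of a composed square.** -/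
theorem bc0_comp (w₁ : g₁' ≫ f = f₁ ≫ g₁) (w₂ : g₂' ≫ f₁ = f₂ ≫ g₂)
    (w : (g₂' ≫ g₁') ≫ f = f₂ ≫ g₂ ≫ g₁) (F : X.Modules) :
    (Scheme.Modules.pullbackComp g₂ g₁).hom.app ((Scheme.Modules.pushforward f).obj F) ≫
        CohBC.bc0 f (g₂ ≫ g₁) f₂ (g₂' ≫ g₁') w F =
      (Scheme.Modules.pullback g₂).map (CohBC.bc0 f g₁ f₁ g₁' w₁ F) ≫
        CohBC.bc0 f₁ g₂ f₂ g₂' w₂ ((Scheme.Modules.pullback g₁').obj F) ≫
        (Scheme.Modules.pushforward f₂).map ((Scheme.Modules.pullbackComp g₂' g₁').hom.app F) := by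
  refine BCComp.pullback_hom_ext₂ fun V s => ?_
  have e₁ : f₁ ⁻¹ᵁ (g₁ ⁻¹ᵁ V) ≤ g₁' ⁻¹ᵁ (f ⁻¹ᵁ V) := CohCmp.sqLE f g₁ f₁ g₁' w₁ V
  have e₂ : f₂ ⁻¹ᵁ (g₂ ⁻¹ᵁ (g₁ ⁻¹ᵁ V)) ≤ g₂' ⁻¹ᵁ (f₁ ⁻¹ᵁ (g₁ ⁻¹ᵁ V)) :=
    CohCmp.sqLE f₁ g₂ f₂ g₂' w₂ (g₁ ⁻¹ᵁ V)
  have e : f₂ ⁻¹ᵁ (g₂ ⁻¹ᵁ (g₁ ⁻¹ᵁ V)) ≤ (g₂' ≫ g₁') ⁻¹ᵁ (f ⁻¹ᵁ V) :=
    e₂.trans (g₂'.preimage_mono e₁)
  show (CohBC.bc0 f (g₂ ≫ g₁) f₂ (g₂' ≫ g₁') w F).app (g₂ ⁻¹ᵁ (g₁ ⁻¹ᵁ V))
      (((Scheme.Modules.pullbackComp g₂ g₁).hom.app _).app (g₂ ⁻¹ᵁ (g₁ ⁻¹ᵁ V))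
        (pullRes g₂ _ (g₁ ⁻¹ᵁ V) (g₂ ⁻¹ᵁ (g₁ ⁻¹ᵁ V)) le_rfl (pullRes g₁ _ V (g₁ ⁻¹ᵁ V) le_rfl s))) =
    ((Scheme.Modules.pullbackComp g₂' g₁').hom.app F).app (f₂ ⁻¹ᵁ (g₂ ⁻¹ᵁ (g₁ ⁻¹ᵁ V)))
      ((CohBC.bc0 f₁ g₂ f₂ g₂' w₂ _).app (g₂ ⁻¹ᵁ (g₁ ⁻¹ᵁ V))
        (((Scheme.Modules.pullback g₂).map (CohBC.bc0 f g₁ f₁ g₁' w₁ F)).app (g₂ ⁻¹ᵁ (g₁ ⁻¹ᵁ V))
          (pullRes g₂ _ (g₁ ⁻¹ᵁ V) (g₂ ⁻¹ᵁ (g₁ ⁻¹ᵁ V)) le_rfl (pullRes g₁ _ V (g₁ ⁻¹ᵁ V) le_rfl s))))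
  rw [CohPullLib.pullbackComp_pullRes g₂ g₁ _ V (g₁ ⁻¹ᵁ V) (g₂ ⁻¹ᵁ (g₁ ⁻¹ᵁ V)) le_rfl le_rfl le_rfl s,
    BCCrit.bc0_pullRes w F V (g₂ ⁻¹ᵁ (g₁ ⁻¹ᵁ V)) le_rfl e s, CohPullLib.pullRes_map,
    BCCrit.bc0_pullRes w₁ F V (g₁ ⁻¹ᵁ V) le_rfl e₁ s]
  erw [BCCrit.bc0_pullRes w₂ ((Scheme.Modules.pullback g₁').obj F) (g₁ ⁻¹ᵁ V) (g₂ ⁻¹ᵁ (g₁ ⁻¹ᵁ V)) le_rfl e₂]
  exact (CohPullLib.pullbackComp_pullRes g₂' g₁' F (f ⁻¹ᵁ V) (f₁ ⁻¹ᵁ (g₁ ⁻¹ᵁ V))
    (f₂ ⁻¹ᵁ (g₂ ⁻¹ᵁ (g₁ ⁻¹ᵁ V))) e₁ e₂ e s).symm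

variable {g₃ : S₂ ⟶ S} {g₃' : X₂ ⟶ X}

/-- Composites of base change isomorphisms. -/
theorem isIso_bc0_comp (w₁ : g₁' ≫ f = f₁ ≫ g₁) (w₂ : g₂' ≫ f₁ = f₂ ≫ g₂) (w₃ : g₃' ≫ f = f₂ ≫ g₃)
    (h : g₂ ≫ g₁ = g₃) (h' : g₂' ≫ g₁' = g₃') (F : X.Modules)
    [IsIso (CohBC.bc0 f g₁ f₁ g₁' w₁ F)]
    [IsIso (CohBC.bc0 f₁ g₂ f₂ g₂' w₂ ((Scheme.Modules.pullback g₁').obj F))] :
    IsIso (CohBC.bc0 f g₃ f₂ g₃' w₃ F) := by
  subst h h'
  have := bc0_comp w₁ w₂ w₃ F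
  have h2 : IsIso ((Scheme.Modules.pullbackComp g₂ g₁).hom.app ((Scheme.Modules.pushforward f).obj F) ≫
      CohBC.bc0 f (g₂ ≫ g₁) f₂ (g₂' ≫ g₁') w₃ F) := by rw [this]; infer_instance
  exact IsIso.of_isIso_comp_left ((Scheme.Modules.pullbackComp g₂ g₁).hom.app _) _

/-- The pullback of the first base change map is invertible when the other two are. -/
theorem isIso_pullback_map_bc0 (w₁ : g₁' ≫ f = f₁ ≫ g₁) (w₂ : g₂' ≫ f₁ = f₂ ≫ g₂)
    (w₃ : g₃' ≫ f = f₂ ≫ g₃) (h : g₂ ≫ g₁ = g₃) (h' : g₂' ≫ g₁' = g₃') (F : X.Modules)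
    [IsIso (CohBC.bc0 f g₃ f₂ g₃' w₃ F)]
    [IsIso (CohBC.bc0 f₁ g₂ f₂ g₂' w₂ ((Scheme.Modules.pullback g₁').obj F))] :
    IsIso ((Scheme.Modules.pullback g₂).map (CohBC.bc0 f g₁ f₁ g₁' w₁ F)) := by
  subst h h'
  have := bc0_comp w₁ w₂ w₃ F
  have h2 : IsIso ((Scheme.Modules.pullback g₂).map (CohBC.bc0 f g₁ f₁ g₁' w₁ F) ≫
      (CohBC.bc0 f₁ g₂ f₂ g₂' w₂ ((Scheme.Modules.pullback g₁').obj F) ≫
        (Scheme.Modules.pushforward f₂).map ((Scheme.Modules.pullbackComp g₂' g₁').hom.app F))) := by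
    rw [← this]; infer_instance
  exact IsIso.of_isIso_comp_right _ (CohBC.bc0 f₁ g₂ f₂ g₂' w₂ ((Scheme.Modules.pullback g₁').obj F) ≫
        (Scheme.Modules.pushforward f₂).map ((Scheme.Modules.pullbackComp g₂' g₁').hom.app F))

/-- Invertibility of base change does not depend on the cartesian square. -/
theorem isIso_bc0_of_square {S' X' X'' : Scheme.{u}} {g : S' ⟶ S} {f' : X' ⟶ S'} {g' : X' ⟶ X}
    {f'' : X'' ⟶ S'} {g'' : X'' ⟶ X} (h : IsPullback g' f' f g) (h' : IsPullback g'' f'' f g) (F : X.Modules)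
    [IsIso (CohBC.bc0 f g f' g' h.w F)] : IsIso (CohBC.bc0 f g f'' g'' h'.w F) := by
  let e := h'.isoIsPullback _ _ h
  have he : IsPullback e.hom f'' f' (𝟙 S') := IsPullback.of_horiz_isIso ⟨by
    rw [Category.comp_id, IsPullback.isoIsPullback_hom_snd]⟩
  haveI := isIso_bc0_of_isOpenImmersion he ((Scheme.Modules.pullback g').obj F)
  exact isIso_bc0_comp h.w he.w h'.w (Category.id_comp _) (IsPullback.isoIsPullback_hom_fst _ _ h' h) F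

/-! ## Affine bases -/

variable {A B : Type u} [CommRing A] [CommRing B] (φ : A →+* B) {X' : Scheme.{u}}
  (p : X ⟶ Spec (CommRingCat.of A)) (p' : X' ⟶ Spec (CommRingCat.of B)) (g : X' ⟶ X)
  (H : IsPullback g p' p (Spec.map (CommRingCat.ofHom φ)))

/-- Base change over an affine base is invertible exactly when the pullback of global sections is a base change. -/
theorem isIso_bc0_spec_iff [QuasiCompact p] [QuasiSeparated p] (F : X.Modules) [F.IsQuasicoherent] :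
    IsIso (CohBC.bc0 p (Spec.map (CommRingCat.ofHom φ)) p' g H.w F) ↔
      BCCoh.IsBC φ (BCCoh.bcHom φ p p' g H F ⊤ ⊤ le_top) := by
  let T := Spec (CommRingCat.of A)
  let T' := Spec (CommRingCat.of B)
  let j := Spec.map (CommRingCat.ofHom φ)
  let N := (Scheme.Modules.pushforward p).obj F
  let G := (Scheme.Modules.pullback g).obj F
  let N' := (Scheme.Modules.pushforward p').obj G
  haveI : QuasiCompact p' := MorphismProperty.of_isPullback (P := @QuasiCompact) H ‹_›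
  haveI : QuasiSeparated p' := MorphismProperty.of_isPullback (P := @QuasiSeparated) H ‹_›
  haveI : N.IsQuasicoherent := QCoh.isQuasicoherent_pushforward p F
  haveI : G.IsQuasicoherent := FittSheaf.isQuasicoherent_pullback g F
  haveI : N'.IsQuasicoherent := QCoh.isQuasicoherent_pushforward p' G
  haveI : ((Scheme.Modules.pullback j).obj N).IsQuasicoherent := FittSheaf.isQuasicoherent_pullback j N
  let b := CohBC.bc0 p j p' g H.w F
  have H₀ : IsPullback j (𝟙 T') (𝟙 T) j := IsPullback.of_vert_isIso ⟨(Category.comp_id _).trans (Category.id_comp _).symm⟩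
  have hb : IsIso b ↔ Function.Bijective (b.app ⊤) := by
    refine ⟨fun h => ConcreteCategory.bijective_of_isIso (b.app ⊤), fun h => ?_⟩
    exact QCoh.isIso_of_bijective_on_cover b (fun _ : PUnit.{u + 1} => (⊤ : T'.Opens))
      (top_le_iff.1 fun x _ => Opens.mem_iSup.2 ⟨⟨⟩, trivial⟩) (fun _ => isAffineOpen_top T') fun _ => h
  rw [hb]
  letI : Algebra A B := φ.toAlgebra
  let MN := BCCoh.secA (𝟙 T) N ⊤
  let MG := BCCoh.secA p F ⊤
  let PN := BCCoh.secA (𝟙 T') ((Scheme.Modules.pullback j).obj N) ⊤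
  let PG := BCCoh.secA p' G ⊤
  letI : Module A PN := Module.compHom PN φ
  letI : Module A PG := Module.compHom PG φ
  haveI : IsScalarTower A B PN := IsScalarTower.of_algebraMap_smul fun _ _ => rfl
  haveI : IsScalarTower A B PG := IsScalarTower.of_algebraMap_smul fun _ _ => rfl
  let ι : MG ≃ₗ[A] MN :=
    { toFun := fun s => s
      invFun := fun s => s
      map_add' := fun _ _ => rfl
      map_smul' := fun a s => by
        have h : BCCoh.psiR p ⊤ a = (p.app ⊤).hom (BCCoh.psiR (𝟙 T) ⊤ a) := by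
          simp [BCCoh.psiR, Coh.toGlobal, Coh.resTop]
          rfl
        exact congrArg (fun r : Γ(X, ⊤) => r • (show Γ(F, ⊤) from s)) h
      left_inv := fun _ => rfl
      right_inv := fun _ => rfl }
  let L : PN →ₗ[B] PG :=
    { toFun := fun z => b.app ⊤ z
      map_add' := fun x y => map_add _ x y
      map_smul' := fun r z => by
        have h : BCCoh.psiR p' ⊤ r = (p'.app ⊤).hom (BCCoh.psiR (𝟙 T') ⊤ r) := by
          simp [BCCoh.psiR, Coh.toGlobal, Coh.resTop]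
          rfl
        refine ((QCoh.appLinear b ⊤).map_smul (BCCoh.psiR (𝟙 T') ⊤ r)
          (show Γ((Scheme.Modules.pullback j).obj N, ⊤) from z)).trans ?_
        exact (congrArg (fun t : Γ(X', ⊤) => t • (show Γ(G, ⊤) from b.app ⊤ z)) h).symm
      }
  let lN : MN →ₗ[A] PN := BCCoh.linOf φ (BCCoh.bcHom φ (𝟙 T) (𝟙 T') j H₀ N ⊤ ⊤ le_top)
  let lG : MG →ₗ[A] PG := BCCoh.linOf φ (BCCoh.bcHom φ p p' g H F ⊤ ⊤ le_top)
  have hN : IsBaseChange B lN := BCCoh.isBC_bcHom φ (𝟙 T) (𝟙 T') j H₀ N (isAffineOpen_top T) rfl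
  let σ : B ⊗[A] MG ≃ₗ[B] PN :=
    (TensorProduct.AlgebraTensorModule.congr (LinearEquiv.refl B B) ι).trans hN.equiv
  have hL : ∀ (r : B) s, L (σ (r ⊗ₜ[A] s)) = r • lG s := fun r s => by
    show L (hN.equiv (r ⊗ₜ[A] ι s)) = _
    rw [hN.equiv_tmul, map_smul]
    exact congrArg (r • ·) (BCCrit.bc0_pullRes H.w F ⊤ ⊤ le_top le_top s)
  constructor
  · intro h
    exact IsBaseChange.of_equiv (σ.trans (LinearEquiv.ofBijective L h)) fun s => by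
      show L (σ (1 ⊗ₜ[A] s)) = _
      rw [hL, one_smul]
  · intro h
    have hG : IsBaseChange B lG := h
    have he : L = (hG.equiv.toLinearMap.comp σ.symm.toLinearMap) := by
      refine LinearMap.ext fun z => ?_
      obtain ⟨w, rfl⟩ := σ.surjective z
      show L (σ w) = hG.equiv (σ.symm (σ w))
      rw [LinearEquiv.symm_apply_apply]
      induction w using TensorProduct.induction_on with
      | zero => simp
      | tmul r s => rw [hG.equiv_tmul, hL]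
      | add x y hx hy => simp only [map_add, hx, hy]
    show Function.Bijective L
    rw [he]
    exact hG.equiv.bijective.comp σ.symm.bijective

end GrothLib.HilbStrat10
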