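import Groth.Agent.Lib.HilbStrat10.Bc0
import Groth.Agent.Lib.HilbFlat10.Fibre

/-!
# Base change of high twists along closed subschemes of the base
-/

set_option autoImplicit false
set_option linter.all false
set_option backward.isDefEq.respectTransparency false
set_option maxHeartbeats 1000000

universe u

open CategoryTheory CategoryTheory.Limits AlgebraicGeometry Opposite TopologicalSpace TensorProduct
open GrothLib.Ample (Cocycle res)
open GrothLib.InvExt (mres)
open GrothLib.BCCoh (secA resA appA psiR psiS)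
open GrothLib.HilbFlat10 (exists_killed_quotient isBaseChange_surjective isBaseChange_of_surjective)

noncomputable section

namespace GrothLib.HilbStrat10

/-- High twists commute with base change to a closed subscheme of the base. -/
theorem exists_isIso_bc0_closed {A B : Type u} [CommRing A] [IsNoetherianRing A] [CommRing B] {X X' : Scheme.{u}}
    (f : X ⟶ Spec (CommRingCat.of A)) [IsProper f] (c : Cocycle X) (hc : c.IsAmp) {F : X.Modules}
    (hF : Coh.IsCoh F) (φ : A →+* B) (hφ' : Function.Surjective φ) (f' : X' ⟶ Spec (CommRingCat.of B))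
    (g : X' ⟶ X) (H : IsPullback g f' f (Spec.map (CommRingCat.ofHom φ))) :
    ∃ N₀ : ℕ, ∀ n, N₀ ≤ n →
      IsIso (CohBC.bc0 f (Spec.map (CommRingCat.ofHom φ)) f' g H.w (c.modTwist F n)) := by
  letI : X.Over (Spec (CommRingCat.of A)) := ⟨f⟩
  haveI : IsProper (X ↘ Spec (CommRingCat.of A)) := ‹IsProper f›
  haveI := SerreVanish.isNoetherian_of_proper (X := X) A
  haveI := SerreVanish.isSeparated_of_proper (X := X) A
  haveI := hF.1
  letI : Algebra A B := φ.toAlgebra
  have hφ : Function.Surjective (algebraMap A B) := hφ'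
  haveI : IsProper f' := MorphismProperty.of_isPullback (P := @IsProper) H ‹IsProper f›
  haveI := BCCoh.isAffineHom_bc φ f f' g H
  obtain ⟨t, ht⟩ := IsNoetherian.noetherian (RingHom.ker φ)
  obtain ⟨Q, hQ, p, N₀, hN⟩ := exists_killed_quotient f c hc F hF t.toList
  have hspan : Ideal.span {a | a ∈ t.toList} = RingHom.ker φ := by
    rw [← ht]
    congr 1
    ext; simp
  refine ⟨N₀, fun n hn => ?_⟩
  haveI := c.isQuasicoherent_modTwist F n
  let G := c.modTwist F n
  let G' := (Scheme.Modules.pullback g).obj G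
  let P := c.modTwist Q n
  let π : G ⟶ P := c.mtwistMap p n
  have hGood := hN n hn
  -- the pullback of sections
  letI : Algebra A B := φ.toAlgebra
  let ℓ : ∀ (V : X.Opens) (V' : X'.Opens) (e : V' ≤ g ⁻¹ᵁ V), secA f G V →+ secA f' G' V' := fun V V' e =>
    AddMonoidHom.mk' (fun s => BCCoh.pullRes g G V V' e s) (BCCoh.pullRes_add g G V V' e)
  have hℓ : ∀ (V : X.Opens) (V' : X'.Opens) e (a : A) (s : secA f G V), ℓ V V' e (a • s) = φ a • ℓ V V' e s :=
    fun V V' e a s => ((BCCoh.bcHom φ f f' g H G V V' e).hom.map_smul a s)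
  have hres : ∀ {V W : X.Opens} (h : W ≤ V) {V' W' : X'.Opens} (e : V' ≤ g ⁻¹ᵁ V) (e' : W' ≤ g ⁻¹ᵁ W)
      (h' : W' ≤ V') (s : secA f G V),
      resA f' G' h' (ℓ V V' e s) = ℓ W W' e' (resA f G h s) :=
    fun {V W} h {V' W'} e e' h' s => BCCoh.pullRes_res g G h e e' h' s
  have haffine : ∀ {V : X.Opens} (hV : IsAffineOpen V), Function.Surjective (ℓ V (g ⁻¹ᵁ V) le_rfl) ∧
      ∀ s, ℓ V (g ⁻¹ᵁ V) le_rfl s = 0 ↔ appA f π V s = 0 := by
    intro V hV
    letI : Module A (secA f' G' (g ⁻¹ᵁ V)) := Module.compHom _ φ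
    haveI : IsScalarTower A B (secA f' G' (g ⁻¹ᵁ V)) := IsScalarTower.of_algebraMap_smul fun _ _ => rfl
    obtain ⟨h1, h2⟩ := isBaseChange_surjective hφ (BCCoh.isBC_bcHom φ f f' g H G hV rfl)
    refine ⟨h1, fun s => ?_⟩
    rw [(hGood V (Or.inl hV)).2 s, hspan]
    refine ⟨h2 s, fun hs => Submodule.smul_induction_on hs (fun r hr m _ => ?_) fun x y hx hy => ?_⟩
    · rw [hℓ, RingHom.mem_ker.1 hr, zero_smul]
    · rw [map_add, hx, hy, add_zero]
  -- the global sections
  let Λ := ℓ ⊤ ⊤ le_top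
  obtain ⟨hπs, hπk⟩ := hGood ⊤ (Or.inr rfl)
  choose j W hpW hWD hW using c.exists_affine_le_D
  have hcov : (⊤ : X.Opens) ≤ ⨆ q, W q := fun x _ => Opens.mem_iSup.mpr ⟨x, hpW x⟩
  have hker : ∀ s, Λ s = 0 → s ∈ RingHom.ker φ • (⊤ : Submodule A (secA f G ⊤)) := by
    intro s hs
    rw [← hspan, ← hπk]
    refine Ample.meq_of_cover P W (fun _ => le_top) hcov fun q => ?_
    refine (QCoh.map_app π (homOfLE (le_top : W q ≤ ⊤)) s).trans (Eq.trans ?_ (map_zero _).symm)
    refine (((haffine (hW q)).2 (resA f G (le_top : W q ≤ ⊤) s)).1 ?_)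
    rw [← hres (le_top : W q ≤ ⊤) (V' := ⊤) le_top le_rfl le_top, hs, map_zero]
  have hsurj : Function.Surjective Λ := by
    intro v
    choose s hs using fun q => (haffine (hW q)).1 (resA f' G' (le_top : g ⁻¹ᵁ W q ≤ ⊤) v)
    obtain ⟨w, hw, -⟩ := TopCat.Sheaf.existsUnique_gluing' ⟨P.presheaf, P.isSheaf⟩ W ⊤
      (fun q => homOfLE le_top) hcov (fun q => appA f π (W q) (s q)) fun q q' => by
        show resA f P inf_le_left (appA f π (W q) (s q)) = resA f P inf_le_right (appA f π (W q') (s q'))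
        have nat : ∀ {V V₂ : X.Opens} (h : V₂ ≤ V) (z : secA f G V),
            resA f P h (appA f π V z) = appA f π V₂ (resA f G h z) :=
          fun h z => QCoh.map_app π (homOfLE h) z
        have haff : IsAffineOpen (W q ⊓ W q') := (hW q).inf (hW q')
        rw [nat, nat, ← sub_eq_zero, ← map_sub]
        refine ((haffine haff).2 _).1 ?_
        rw [map_sub, sub_eq_zero, ← hres (inf_le_left : W q ⊓ W q' ≤ W q) le_rfl le_rfl (g.preimage_mono inf_le_left),
          ← hres (inf_le_right : W q ⊓ W q' ≤ W q') le_rfl le_rfl (g.preimage_mono inf_le_right), hs q, hs q']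
        exact (InvExt.mres_mres G' _ _ _).trans (InvExt.mres_mres G' _ _ _).symm
    obtain ⟨z, hz⟩ := hπs w
    refine ⟨z, ?_⟩
    refine Ample.meq_of_cover G' (fun q => g ⁻¹ᵁ W q) (fun _ => le_top) (fun x _ => ?_) fun q => ?_
    · exact Opens.mem_iSup.mpr ⟨g.base x, hpW _⟩
    show resA f' G' le_top (Λ z) = resA f' G' le_top v
    rw [hres (le_top : W q ≤ ⊤) le_top le_rfl le_top, ← hs q, ← sub_eq_zero, ← map_sub, (haffine (hW q)).2,
      map_sub, sub_eq_zero]
    exact (QCoh.map_app π (homOfLE (le_top : W q ≤ ⊤)) z).symm.trans ((congrArg _ hz).trans (hw q))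
  letI : Module A (secA f' G' ⊤) := Module.compHom _ φ
  haveI : IsScalarTower A B (secA f' G' ⊤) := IsScalarTower.of_algebraMap_smul fun _ _ => rfl
  let lΛ : secA f G ⊤ →ₗ[A] secA f' G' ⊤ := BCCoh.linOf φ (BCCoh.bcHom φ f f' g H G ⊤ ⊤ le_top)
  have hbc : IsBaseChange B lΛ := isBaseChange_of_surjective hφ hsurj hker
  exact (isIso_bc0_spec_iff φ f f' g H G).2 hbc

end GrothLib.HilbStrat10
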