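import Groth.Agent.Lib.HilbDesc10.Push
import Groth.Agent.Lib.BCCrit.StratumPush
import Groth.Agent.Lib.EulerConst10.BaseChange

/-!
# Fibre ranks and vanishing
-/

set_option autoImplicit false
set_option linter.all false
set_option backward.isDefEq.respectTransparency false
set_option maxHeartbeats 1000000

universe u

open CategoryTheory Limits AlgebraicGeometry Opposite TopologicalSpace

noncomputable section

namespace GrothLib.HilbStrat10

open GrothLib.EulerConst10 (fibEuler)

variable {X S X' S' : Scheme.{u}}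

/-- The fibre ranks commute with base change. -/
theorem fiberRank_baseChange {f : X ⟶ S} {g : S' ⟶ S} {f' : X' ⟶ S'} {g' : X' ⟶ X}
    (hc : IsPullback g' f' f g) [IsProper f] (F : X.Modules) [F.IsQuasicoherent] (p : ℕ) (s' : S') :
    CohIII.fiberRank f' ((Scheme.Modules.pullback g').obj F) p s' = CohIII.fiberRank f F p (g s') := by
  obtain ⟨i, hi, H⟩ := FibreBC.exists_isPullback_fiber hc s'
  let k := S.residueField (g s')
  let K := S'.residueField s'
  let φ : k →+* K := (g.residueFieldMap s').hom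
  let q₀ := f.fiberToSpecResidueField (g s')
  let q := f'.fiberToSpecResidueField s'
  haveI : IsProper q₀ :=
    MorphismProperty.pullback_snd (P := @IsProper) f (S.fromSpecResidueField (g s')) ‹IsProper f›
  letI : (f.fiber (g s')).Over (Spec (CommRingCat.of k)) := ⟨q₀⟩
  letI : (f'.fiber s').Over (Spec (CommRingCat.of K)) := ⟨q⟩
  haveI : IsProper ((f.fiber (g s')) ↘ Spec (CommRingCat.of k)) := ‹IsProper q₀›
  haveI := Euler.isNoetherian_of_proper (X := f.fiber (g s')) k
  haveI : (f.fiber (g s')).IsSeparated := ⟨by rw [← terminal.comp_from q₀]; infer_instance⟩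
  let M := (Scheme.Modules.pullback (f.fiberι (g s'))).obj F
  haveI : M.IsQuasicoherent := FittSheaf.isQuasicoherent_pullback (f.fiberι (g s')) F
  let e : (Scheme.Modules.pullback i).obj M ≅
      (Scheme.Modules.pullback (f'.fiberι s')).obj ((Scheme.Modules.pullback g').obj F) :=
    (Scheme.Modules.pullbackComp i (f.fiberι (g s'))).app F ≪≫ (Scheme.Modules.pullbackCongr hi).app F ≪≫
      ((Scheme.Modules.pullbackComp (f'.fiberι s') g').app F).symm
  obtain ⟨b⟩ := BCCoh.exists_flatBC φ
    (show φ.Flat from letI := φ.toAlgebra; inferInstanceAs (Module.Flat k K)) q₀ q i H M p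
  letI := φ.toAlgebra
  letI := BCCoh.modHH q₀ M p
  letI := BCCoh.modHH q ((Scheme.Modules.pullback i).obj M) p
  have h1 := b.finrank_eq
  rw [Module.finrank_baseChange] at h1
  exact ((Euler.hhEquiv (A := K) e p).finrank_eq).symm.trans h1.symm

/-- With vanishing higher fibre ranks the Euler characteristic is the zeroth rank. -/
theorem fibEuler_eq_fiberRank (f : X ⟶ S) (M : X.Modules) (s : S)
    (h : ∀ p, 1 ≤ p → CohIII.fiberRank f M p s = 0) :
    fibEuler f M s = (CohIII.fiberRank f M 0 s : ℤ) := by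
  refine (finsum_eq_single _ 0 fun i hi => ?_).trans (by rw [pow_zero, one_mul]; rfl)
  show (-1 : ℤ) ^ i * (CohIII.fiberRank f M i s : ℤ) = 0
  rw [h i (Nat.one_le_iff_ne_zero.2 hi), Nat.cast_zero, mul_zero]

variable {R : Type u} [CommRing R] [IsNoetherianRing R]

/-- Vanishing higher direct images of a flat module give vanishing higher fibre ranks. -/
theorem fiberRank_eq_zero_of_isZero_Rpush (f : X ⟶ Spec (CommRingCat.of R)) [IsProper f]
    [HasInjectiveResolutions X.Modules] {M : X.Modules} (hM : CohB1.IsFP M) (hfl : FlatMod.IsFlatOver f M)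
    (hz : ∀ p, 1 ≤ p → IsZero ((Coh.Rpush f p).obj M)) (s : Spec (CommRingCat.of R)) (p : ℕ) (hp : 1 ≤ p) :
    CohIII.fiberRank f M p s = 0 := by
  haveI : Coh.IsQCoh M := SemiPrufer.qcoh_of_isFP hM
  obtain ⟨d, hd⟩ := EulerConst10.exists_dim_fiber_le_on f (isAffineOpen_top (Spec (CommRingCat.of R)))
  have key : ∀ k p : ℕ, 1 ≤ p → d + 1 ≤ p + k → CohIII.fiberRank f M p s = 0 := by
    intro k
    induction k with
    | zero => exact fun p _ hp => BCCrit.fiberRank_eq_zero_of_dim_lt s d p (hd s trivial) (by omega)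
    | succ k ih =>
      intro p hp1 hp
      have h2 : BCCrit.GoodAll f M (p : ℤ) s := by
        have := (BCCrit.goodAll_of_fiberRank_eq_zero (p + 1) s (ih (p + 1) (by omega) (by omega))).2
        simpa using this
      have φ₀ : ((Coh.Rpush f p).obj M).restrict (⊤ : (Spec (CommRingCat.of R)).Opens).ι ≅
          FlatMod.freeMod (↑(⊤ : (Spec (CommRingCat.of R)).Opens)) 0 :=
        ((Scheme.Modules.restrictFunctor (⊤ : (Spec (CommRingCat.of R)).Opens).ι).map_isZero (hz p hp1)).iso
          (Euler.isZero_freeMod_zero _)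
      have h1 : BCCrit.GoodAll f M ((p : ℤ) - 1) s :=
        BCCrit.goodAll_pred_of_free p h2 (U := ⊤) (n := 0) trivial φ₀
      obtain ⟨U, n, hsU, ⟨φ⟩, hn⟩ := BCCrit.exists_free_near hM hfl p s h1 h2
      rw [hn s hsU]
      exact BCCrit.rank_unique hsU (show s ∈ (⊤ : (Spec (CommRingCat.of R)).Opens) from trivial) φ φ₀
  exact key (d + 1) p hp (by omega)

/-- Vanishing higher fibre ranks give goodness in degree zero. -/
theorem goodAll_zero (f : X ⟶ S) [IsProper f] {M : X.Modules} [Coh.IsQCoh M] (s : S)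
    (h : CohIII.fiberRank f M 1 s = 0) : BCCrit.GoodAll f M ((0 : ℕ) : ℤ) s := by
  have := (BCCrit.goodAll_of_fiberRank_eq_zero (f := f) (F := M) 1 s h).2
  simpa using this

/-- Where higher fibre ranks vanish the direct image is free of rank the Euler characteristic. -/
theorem exists_free_near_euler (f : X ⟶ S) [IsProper f] [LocallyOfFinitePresentation f] {M : X.Modules}
    (hM : CohB1.IsFP M) (hfl : FlatMod.IsFlatOver f M)
    (h : ∀ (s : S) (p : ℕ), 1 ≤ p → CohIII.fiberRank f M p s = 0) (s : S) :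
    ∃ (U : S.Opens) (r : ℕ), s ∈ U ∧
      Nonempty (((Scheme.Modules.pushforward f).obj M).restrict U.ι ≅ FlatMod.freeMod (↑U) r) ∧
      ∀ y ∈ U, fibEuler f M y = (r : ℤ) := by
  haveI : Coh.IsQCoh M := SemiPrufer.qcoh_of_isFP hM
  obtain ⟨U, r, hsU, hφ, hn⟩ := BCCrit.exists_free_near0 hM hfl s (goodAll_zero f s (h s 1 le_rfl))
  exact ⟨U, r, hsU, hφ, fun y hy => by rw [fibEuler_eq_fiberRank f M y (h y), hn y hy]⟩

end GrothLib.HilbStrat10
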