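import Groth.Agent.Lib.HilbStrat10.Closed
import Groth.Agent.Lib.HilbStrat10.Vanish
import Groth.Agent.Lib.EulerConst10.Finite
import Groth.Agent.Lib.RelVanish.Basic
import Groth.Agent.Lib.HilbFlat10.Criteria

/-!
# Uniform base change of high twists to points
-/

set_option autoImplicit false
set_option linter.all false
set_option backward.isDefEq.respectTransparency false
set_option maxHeartbeats 1000000

universe u

open CategoryTheory Limits AlgebraicGeometry Opposite TopologicalSpace
open GrothLib.Ample (Cocycle)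

noncomputable section

namespace GrothLib.HilbStrat10

/-- A field valued point over a point of a preimmersion factors through it. -/
theorem exists_lift_field {Z S : Scheme.{u}} (ι : Z ⟶ S) [IsPreimmersion ι] {K : Type u} [Field K]
    (h : Spec (CommRingCat.of K) ⟶ S) (z : Z) (hz : ι z = h (IsLocalRing.closedPoint K)) :
    ∃ u : Spec (CommRingCat.of K) ⟶ Z, u ≫ ι = h := by
  obtain ⟨⟨s, ρ⟩, rfl⟩ := (Scheme.SpecToEquivOfField K S).symm.surjective h
  have hs : ι z = s := by
    rw [hz]
    show (Spec.map ρ ≫ S.fromSpecResidueField s) _ = s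
    exact Scheme.fromSpecResidueField_apply s _
  subst hs
  have hb : Function.Bijective (ι.residueFieldMap z).hom := by
    refine ⟨(ι.residueFieldMap z).hom.injective, fun y => ?_⟩
    obtain ⟨y', rfl⟩ := IsLocalRing.residue_surjective y
    obtain ⟨x, rfl⟩ := ι.stalkMap_surjective z y'
    exact ⟨S.residue (ι z) x, ConcreteCategory.congr_hom (Scheme.residue_residueFieldMap ι z) x⟩
  haveI : IsIso (ι.residueFieldMap z) := (ConcreteCategory.isIso_iff_bijective _).2 hb
  refine ⟨Spec.map (inv (ι.residueFieldMap z) ≫ ρ) ≫ Z.fromSpecResidueField z, ?_⟩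
  show _ = Spec.map ρ ≫ S.fromSpecResidueField (ι z)
  rw [Category.assoc, ← Scheme.Hom.SpecMap_residueFieldMap_fromSpecResidueField ι z, ← Spec.map_comp_assoc,
    IsIso.hom_inv_id_assoc]

variable {R : Type u} [CommRing R] [IsNoetherianRing R] {X : Scheme.{u}}
  (f : X ⟶ Spec (CommRingCat.of R)) [IsProper f] (c : Cocycle X)

/-- What is wanted of a twist at the points of a part of the base. -/
def PtOK (M : X.Modules) (s : Spec (CommRingCat.of R)) : Prop :=
  (∀ p, 1 ≤ p → CohIII.fiberRank f M p s = 0) ∧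
    ∀ (K : Type u) [Field K] (h : Spec (CommRingCat.of K) ⟶ Spec (CommRingCat.of R)),
      h (IsLocalRing.closedPoint K) = s → ∀ {X' : Scheme.{u}} (f' : X' ⟶ Spec (CommRingCat.of K)) (g' : X' ⟶ X)
        (hsq : IsPullback g' f' f h), IsIso (CohBC.bc0 f h f' g' hsq.w M)

/-- One affine piece of a stratum. -/
theorem exists_piece (hc : c.IsAmp) {G : X.Modules} (hG : Coh.IsCoh G) {B C : Type u} [CommRing B] [CommRing C]
    (φ : R →+* B) (hφ : Function.Surjective φ) (j : Spec (CommRingCat.of C) ⟶ Spec (CommRingCat.of B))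
    [IsOpenImmersion j]
    (hfl : FlatMod.IsFlatOver (pullback.snd f (j ≫ Spec.map (CommRingCat.ofHom φ)))
      ((Scheme.Modules.pullback (pullback.fst f (j ≫ Spec.map (CommRingCat.ofHom φ)))).obj G)) :
    ∃ N, ∀ n, N ≤ n → ∀ z, PtOK f (c.modTwist G n) ((j ≫ Spec.map (CommRingCat.ofHom φ)) z) := by
  haveI := hG.1
  haveI : IsLocallyNoetherian X := LocallyOfFiniteType.isLocallyNoetherian f
  haveI : CompactSpace X := QuasiCompact.compactSpace_of_compactSpace f
  haveI : IsNoetherianRing B := isNoetherianRing_of_surjective R B φ hφ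
  haveI : IsNoetherianRing C := by
    haveI : IsLocallyNoetherian (Spec (CommRingCat.of C)) := LocallyOfFiniteType.isLocallyNoetherian j
    haveI : IsNoetherianRing Γ(Spec (CommRingCat.of C), ⊤) :=
      IsLocallyNoetherian.component_noetherian ⟨⊤, isAffineOpen_top _⟩
    exact isNoetherianRing_of_ringEquiv _ (Scheme.ΓSpecIso (CommRingCat.of C)).commRingCatIsoToRingEquiv
  let q := Spec.map (CommRingCat.ofHom φ)
  haveI : IsClosedImmersion q := IsClosedImmersion.spec_of_surjective _ hφ
  let ι := j ≫ q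
  obtain ⟨N₁, hN₁⟩ := exists_isIso_bc0_closed f c hc hG φ hφ (pullback.snd f q) (pullback.fst f q)
    (IsPullback.of_hasPullback f q)
  let g' := pullback.fst f ι
  let f' := pullback.snd f ι
  haveI : LocallyOfFinitePresentation f' := inferInstance
  haveI : IsAffineHom g' := MorphismProperty.pullback_fst (P := @IsAffineHom) f ι inferInstance
  haveI : EnoughInjectives (pullback f ι).Modules :=
    SheafCoh.enoughInjectives_sheafOfModules (pullback f ι).ringCatSheaf
  let c' := c.comap g'
  let G' := (Scheme.Modules.pullback g').obj G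
  have hG' : Coh.IsCoh G' := ModDesc.isCoh_pullback g' G hG
  obtain ⟨e₁⟩ := c.nonempty_pullback_twist g' 1
  let L' := c'.twist 1
  have hL' : CohB1.IsAmple L' := (c'.isAmple_iff (Iso.refl _)).2
    ⟨inferInstanceAs (CompactSpace (pullback f ι : Scheme.{u})), HilbFlat10.isAmp_comap g' hc⟩
  have hA : IsAffineOpen (⊤ : (Spec (CommRingCat.of C)).Opens) := isAffineOpen_top _
  obtain ⟨N₂, hN₂⟩ := RelVanish.exists_forall_subsingleton_preimage f' hL'.1 hA
    ((Ample.isAmple_restrict_top_iff L' f'.preimage_top).mpr hL') hG'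
  refine ⟨max N₁ N₂, fun n hn => ?_⟩
  haveI := c.isQuasicoherent_modTwist G n
  let M := c.modTwist G n
  let M' := (Scheme.Modules.pullback g').obj M
  obtain ⟨e₂⟩ := HilbFlat10.nonempty_pullback_modTwist g' c G n
  obtain ⟨e₃⟩ := HilbFlat10.nonempty_modTwist_iso c' (Iso.refl L') G' n
  have hP : CohB1.IsFP (CohB1.tensorMod G' (CohB1.tensorPow L' n)) :=
    haveI : IsLocallyNoetherian (pullback f ι) := LocallyOfFiniteType.isLocallyNoetherian f'
    haveI := hG'.1
    EulerConst10.isFP_tensorPows (QCoh.isFinitePresentation_of_isFiniteType G' hG'.2) (t := 1) (fun _ => L')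
      (fun _ => hL'.1) (fun _ => n)
  have hM' : CohB1.IsFP M' :=
    (SheafOfModules.isFinitePresentation (pullback f ι).ringCatSheaf).prop_of_iso (e₂ ≪≫ e₃).symm hP
  have hM'fl : FlatMod.IsFlatOver f' M' := fun x =>
    (FlatFP.isFlatOverAt_congr f' (e₂ ≪≫ e₃) x).2
      (EulerConst10.isFlatOver_tF f' (Ample.isInvertible_tensorPow hL'.1 n) hfl x)
  haveI : (CohB1.tensorMod G' (CohB1.tensorPow L' n)).IsQuasicoherent := SemiPrufer.qcoh_of_isFP hP
  have hz : ∀ p, 1 ≤ p → IsZero ((Coh.Rpush f' p).obj M') := fun p hp =>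
    (RelVanish.isZero_Rpush_of_cover f' (CohB1.tensorMod G' (CohB1.tensorPow L' n)) p
      (fun _ : Unit => (⊤ : (Spec (CommRingCat.of C)).Opens))
      (fun _ => hA) (fun _ => ⟨(), trivial⟩) (fun _ => hN₂ n (le_trans (le_max_right _ _) hn) p hp)).of_iso
      ((Coh.Rpush f' p).mapIso (e₂ ≪≫ e₃))
  have hrank := fiberRank_eq_zero_of_isZero_Rpush f' hM' hM'fl hz
  haveI : Coh.IsQCoh M' := SemiPrufer.qcoh_of_isFP hM'
  -- the square over the piece
  let k : pullback f ι ⟶ pullback f q := pullback.lift g' (f' ≫ j) (by rw [Category.assoc]; exact pullback.condition)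
  have hk₁ : k ≫ pullback.fst f q = g' := pullback.lift_fst _ _ _
  have hk : IsPullback k f' (pullback.snd f q) j := by
    refine IsPullback.of_right ?_ (pullback.lift_snd _ _ _) (IsPullback.of_hasPullback f q)
    rw [hk₁]
    exact IsPullback.of_hasPullback f ι
  haveI := hN₁ n (le_trans (le_max_left _ _) hn)
  haveI := isIso_bc0_of_isOpenImmersion hk ((Scheme.Modules.pullback (pullback.fst f q)).obj M)
  haveI : IsIso (CohBC.bc0 f ι f' g' pullback.condition M) :=
    isIso_bc0_comp (IsPullback.of_hasPullback f q).w hk.w pullback.condition rfl hk₁ M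
  intro z
  refine ⟨fun p hp => ?_, fun K _ h hh X' f'' g'' hsq => ?_⟩
  · rw [← fiberRank_baseChange (IsPullback.of_hasPullback f ι) M p z]
    exact hrank z p hp
  obtain ⟨v, rfl⟩ := exists_lift_field ι h z hh.symm
  let k₂ : X' ⟶ pullback f ι := pullback.lift g'' (f'' ≫ v) (by rw [Category.assoc]; exact hsq.w)
  have hk₂ : k₂ ≫ g' = g'' := pullback.lift_fst _ _ _
  have hsq₂ : IsPullback k₂ f'' f' v := by
    refine IsPullback.of_right ?_ (pullback.lift_snd _ _ _) (IsPullback.of_hasPullback f ι)
    rw [hk₂]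
    exact hsq
  haveI := BCCrit.isIso_bc0_of_goodAll hM' hM'fl ⊤ (fun s _ => goodAll_zero f' s (hrank s 1 le_rfl)) hsq₂
    fun _ => trivial
  exact isIso_bc0_comp (IsPullback.of_hasPullback f ι).w hsq₂.w hsq.w rfl hk₂ M

/-- **High twists commute with base change to points, uniformly.** -/
theorem exists_uniform (hc : c.IsAmp) {G : X.Modules} (hG : Coh.IsCoh G) :
    ∃ N, ∀ n, N ≤ n → ∀ s, PtOK f (c.modTwist G n) s := by
  classical
  haveI := hG.1
  haveI : IsLocallyNoetherian X := LocallyOfFiniteType.isLocallyNoetherian f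
  have hGfp : CohB1.IsFP G := QCoh.isFinitePresentation_of_isFiniteType G hG.2
  obtain ⟨m, I, hmono, hlast, hfirst, hfg, hstep⟩ := FlatStrat.exists_stratification f G hGfp
  have hj : ∀ j : Fin m, ∃ N, ∀ n, N ≤ n → ∀ s ∈ Set.range (FlatStrat.stratumι (I j.castSucc) (I j.succ)),
      PtOK f (c.modTwist G n) s := by
    intro i
    let K := I i.castSucc
    let L := I i.succ
    let Z := (K.subschemeι ⁻¹ᵁ L.support.compl).toScheme
    haveI : CompactSpace Z := EulerConst10.compactSpace_stratum K L (hfg i.succ)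
    obtain ⟨J, e, he⟩ := IsClosedImmersion.Spec_iff.1 (inferInstance : IsClosedImmersion K.subschemeι)
    let 𝒰 := Z.affineCover.finiteSubcover
    haveI : ∀ a, IsAffine (𝒰.X a) := fun a => by dsimp [𝒰]; infer_instance
    have hpiece : ∀ a : 𝒰.I₀, ∃ N, ∀ n, N ≤ n → ∀ z : 𝒰.X a,
        PtOK f (c.modTwist G n) (FlatStrat.stratumι K L (𝒰.f a z)) := by
      intro a
      let w := (𝒰.X a).isoSpec.inv ≫ 𝒰.f a
      let j := w ≫ (K.subschemeι ⁻¹ᵁ L.support.compl).ι ≫ e.hom
      let φ : R →+* (R ⧸ J) := Ideal.Quotient.mk J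
      have hfac : j ≫ Spec.map (CommRingCat.ofHom φ) = w ≫ FlatStrat.stratumι K L := by
        simp only [j, Category.assoc]
        exact congrArg (fun t => w ≫ (K.subschemeι ⁻¹ᵁ L.support.compl).ι ≫ t) he.symm
      have hfl : FlatMod.IsFlatOver (pullback.snd f (j ≫ Spec.map (CommRingCat.ofHom φ)))
          ((Scheme.Modules.pullback (pullback.fst f (j ≫ Spec.map (CommRingCat.ofHom φ)))).obj G) := by
        rw [hfac]
        let k : pullback f (w ≫ FlatStrat.stratumι K L) ⟶ pullback f (FlatStrat.stratumι K L) :=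
          pullback.lift (pullback.fst _ _) (pullback.snd _ _ ≫ w) (by rw [Category.assoc]; exact pullback.condition)
        have hk₁ : k ≫ pullback.fst f _ = pullback.fst f _ := pullback.lift_fst _ _ _
        have hk : IsPullback k (pullback.snd f (w ≫ FlatStrat.stratumι K L))
            (pullback.snd f (FlatStrat.stratumι K L)) w := by
          refine IsPullback.of_right ?_ (pullback.lift_snd _ _ _) (IsPullback.of_hasPullback _ _)
          rw [hk₁]
          exact IsPullback.of_hasPullback _ _
        haveI := FittSheaf.isQuasicoherent_pullback (pullback.fst f (FlatStrat.stratumι K L)) G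
        exact fun x => (FlatFP.isFlatOverAt_congr _ ((Scheme.Modules.pullbackComp k _).app G ≪≫
          (Scheme.Modules.pullbackCongr hk₁).app G) x).1
            (FlatDesc.isFlatOver_baseChange hk _ (hstep i).2.2.2 x)
      obtain ⟨N, hN⟩ := exists_piece f c hc hG φ Ideal.Quotient.mk_surjective j hfl
      refine ⟨N, fun n hn z => ?_⟩
      have h := hN n hn ((𝒰.X a).isoSpec.hom z)
      rw [hfac] at h
      have hz : (𝒰.X a).isoSpec.inv ((𝒰.X a).isoSpec.hom z) = z := by
        rw [← Scheme.Hom.comp_apply, Iso.hom_inv_id]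
        rfl
      have e : (w ≫ FlatStrat.stratumι K L) ((𝒰.X a).isoSpec.hom z) = FlatStrat.stratumι K L (𝒰.f a z) :=
        congrArg (fun t => FlatStrat.stratumι K L (𝒰.f a t)) hz
      exact e ▸ h
    choose N hN using hpiece
    obtain ⟨B, hB⟩ := Finite.exists_le N
    refine ⟨B, fun n hn s hs => ?_⟩
    obtain ⟨z, rfl⟩ := hs
    obtain ⟨z', hz'⟩ := 𝒰.covers z
    rw [← hz']
    exact hN _ n ((hB _).trans hn) z'
  choose N hN using hj
  obtain ⟨B, hB⟩ := Finite.exists_le N
  refine ⟨B, fun n hn v => ?_⟩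
  obtain ⟨j, hv1, hv2⟩ : ∃ j : Fin m, v ∈ (I j.castSucc).support ∧ v ∉ (I j.succ).support := by
    by_contra h
    push Not at h
    have hall : ∀ j : Fin (m + 1), v ∈ (I j).support := fun j => by
      induction j using Fin.induction with
      | zero => rw [← SetLike.mem_coe, hfirst]; trivial
      | succ j ih => exact h j ih
    have := hall (Fin.last m)
    rw [hlast, Scheme.IdealSheafData.support_top, ← SetLike.mem_coe, Closeds.coe_bot] at this
    exact this
  have hr : v ∈ Set.range (I j.castSucc).subschemeι := by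
    rw [Scheme.IdealSheafData.range_subschemeι]; exact hv1
  obtain ⟨w, hw⟩ := hr
  refine hN j n ((hB j).trans hn) v ⟨⟨w, ?_⟩, hw⟩
  show (I j.castSucc).subschemeι w ∈ (I j.succ).support.compl
  rw [hw]; exact hv2

end GrothLib.HilbStrat10
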